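import Mathlib
import Groth.Prelude.Def_CAlgX

/-!
Smooth locus of the generic determinantal scheme (row S10883).
-/

set_option autoImplicit false
set_option linter.style.haveILetI false

noncomputable section

universe u

open Matrix

namespace Groth.Agent.Det14

variable {R : Type u} [CommRing R]

theorem det_mul_thin {r : ℕ} (U : Matrix (Fin (r + 1)) (Fin r) R) (V : Matrix (Fin r) (Fin (r + 1)) R) :
    (U * V).det = 0 := by
  let U' : Matrix (Fin (r + 1)) (Fin (r + 1)) R := Matrix.of fun i => Fin.snoc (U i) 0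
  let V' : Matrix (Fin (r + 1)) (Fin (r + 1)) R := Matrix.of (Fin.snoc (fun a => V a) 0)
  have h : U * V = U' * V' := by
    ext i j
    simp [U', V', Matrix.mul_apply, Fin.sum_univ_castSucc]
  rw [h, Matrix.det_mul, Matrix.det_eq_zero_of_column_eq_zero (Fin.last r) (fun i => by simp [U']), zero_mul]

variable {n m r : ℕ}

/-- All `(r+1)`-minors of a product through `R^r` vanish. -/
theorem minorIdeal_mul (U : Matrix (Fin n) (Fin r) R) (V : Matrix (Fin r) (Fin m) R) :
    CAlgX.minorIdeal (U * V) (r + 1) = ⊥ := by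
  rw [CAlgX.minorIdeal, Ideal.span_eq_bot]
  rintro _ ⟨⟨p, q⟩, rfl⟩
  show ((U * V).submatrix p q).det = 0
  rw [Matrix.submatrix_mul U V p id q Function.bijective_id]
  exact det_mul_thin _ _

theorem map_minor {S : Type u} [CommRing S] (φ : R →+* S) (M : Matrix (Fin n) (Fin m) R) {t : ℕ}
    (p : Fin t → Fin n) (q : Fin t → Fin m) :
    φ (M.submatrix p q).det = ((M.map φ).submatrix p q).det :=
  RingHom.map_det φ _

theorem minor_eq_zero {M : Matrix (Fin n) (Fin m) R} {t : ℕ} (h : CAlgX.minorIdeal M t = ⊥)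
    (p : Fin t → Fin n) (q : Fin t → Fin m) : (M.submatrix p q).det = 0 := by
  have := Ideal.subset_span (α := R) (Set.mem_range_self (f := fun fg : (Fin t → Fin n) × (Fin t → Fin m) =>
    Matrix.det (M.submatrix fg.1 fg.2)) (p, q))
  rw [show Ideal.span _ = (⊥ : Ideal R) from h] at this
  exact this

/-- A matrix of rank at most `r` is determined by `r` rows and `r` columns through an invertible minor. -/
theorem entry_eq (M : Matrix (Fin n) (Fin m) R) (h : CAlgX.minorIdeal M (r + 1) = ⊥)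
    (f : Fin r → Fin n) (g : Fin r → Fin m) (hN : IsUnit (M.submatrix f g).det) (i : Fin n) (j : Fin m) :
    M i j = (M.submatrix (fun _ : Fin 1 => i) g * (M.submatrix f g)⁻¹ * M.submatrix f (fun _ : Fin 1 => j)) 0 0 := by
  haveI := (M.submatrix f g).invertibleOfIsUnitDet hN
  have h0 : (M.submatrix (Sum.elim f fun _ : Fin 1 => i) (Sum.elim g fun _ : Fin 1 => j)).det = 0 := by
    rw [← Matrix.det_submatrix_equiv_self (finSumFinEquiv (m := r) (n := 1)).symm, Matrix.submatrix_submatrix]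
    exact minor_eq_zero h _ _
  have hb : M.submatrix (Sum.elim f fun _ : Fin 1 => i) (Sum.elim g fun _ : Fin 1 => j) =
      Matrix.fromBlocks (M.submatrix f g) (M.submatrix f fun _ : Fin 1 => j)
        (M.submatrix (fun _ : Fin 1 => i) g) (M.submatrix (fun _ : Fin 1 => i) fun _ : Fin 1 => j) := by
    ext a b
    rcases a with a | a <;> rcases b with b | b <;> rfl
  rw [hb, Matrix.det_fromBlocks₁₁, hN.mul_right_eq_zero, Matrix.det_unique, Matrix.sub_apply, sub_eq_zero,
    Matrix.invOf_eq_nonsing_inv] at h0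
  exact h0

theorem ext_of_rank {M M' : Matrix (Fin n) (Fin m) R} (h : CAlgX.minorIdeal M (r + 1) = ⊥)
    (h' : CAlgX.minorIdeal M' (r + 1) = ⊥) (f : Fin r → Fin n) (g : Fin r → Fin m)
    (hN : IsUnit (M.submatrix f g).det) (hf : ∀ a j, M (f a) j = M' (f a) j) (hg : ∀ i b, M i (g b) = M' i (g b)) :
    M = M' := by
  have e1 : M'.submatrix f g = M.submatrix f g := by ext a b; exact (hf a (g b)).symm
  ext i j
  have e2 : M'.submatrix (fun _ : Fin 1 => i) g = M.submatrix (fun _ : Fin 1 => i) g := by ext a b; exact (hg i b).symm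
  have e3 : M'.submatrix f (fun _ : Fin 1 => j) = M.submatrix f (fun _ : Fin 1 => j) := by ext a b; exact (hf a j).symm
  rw [entry_eq M h f g hN, entry_eq M' h' f g (e1.symm ▸ hN), e1, e2, e3]

theorem exists_rank_lift (a : Matrix (Fin n) (Fin m) R) (f : Fin r → Fin n) (g : Fin r → Fin m)
    (hN : IsUnit (a.submatrix f g).det) :
    ∃ Y : Matrix (Fin n) (Fin m) R, CAlgX.minorIdeal Y (r + 1) = ⊥ ∧
      (∀ p j, Y (f p) j = a (f p) j) ∧ ∀ i q, Y i (g q) = a i (g q) := by
  refine ⟨a.submatrix id g * (a.submatrix f g)⁻¹ * a.submatrix f id, minorIdeal_mul _ _, fun p j => ?_, fun i q => ?_⟩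
  · calc (a.submatrix id g * (a.submatrix f g)⁻¹ * a.submatrix f id) (f p) j
        = (a.submatrix f g * (a.submatrix f g)⁻¹ * a.submatrix f id) p j := rfl
      _ = a (f p) j := by rw [Matrix.mul_nonsing_inv _ hN, Matrix.one_mul]; rfl
  · calc (a.submatrix id g * (a.submatrix f g)⁻¹ * a.submatrix f id) i (g q)
        = (a.submatrix id g * ((a.submatrix f g)⁻¹ * a.submatrix f g)) i q := by rw [← Matrix.mul_assoc]; rfl
      _ = a i (g q) := by rw [Matrix.nonsing_inv_mul _ hN, Matrix.mul_one]; rfl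

/-- First order expansion of the determinant modulo a square-zero ideal. -/
theorem det_sub_mem {t : ℕ} (J K : Ideal R) (hJ : J * J = ⊥) (N N' : Matrix (Fin t) (Fin t) R)
    (hd : ∀ i j, N i j - N' i j ∈ J) (hK : ∀ i j, N.adjugate i j ∈ K) : N.det - N'.det ∈ K * J := by
  classical
  let H : Finset (Fin t) → Matrix (Fin t) (Fin t) R := fun s => Matrix.of fun i j => if j ∈ s then N' i j else N i j
  suffices key : ∀ s, N.det - (H s).det ∈ K * J by
    have h1 : H Finset.univ = N' := by ext i j; simp [H]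
    simpa [h1] using key Finset.univ
  intro s
  induction s using Finset.induction with
  | empty => rw [show H ∅ = N by ext i j; simp [H], sub_self]; exact zero_mem _
  | @insert a s has ih =>
    have hHs : H s = (H s).updateCol a (fun i => N i a) := by
      ext i j
      rcases eq_or_ne j a with rfl | hj
      · simp [H, has]
      · simp [H, hj]
    have hHi : H (insert a s) = (H s).updateCol a (fun i => N' i a) := by
      ext i j
      rcases eq_or_ne j a with rfl | hj
      · simp [H]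
      · simp [H, hj]
    have hdet : (H s).det - (H (insert a s)).det = ∑ i, (H s).adjugate a i * (N i a - N' i a) := by
      conv_lhs => rw [hHi]
      nth_rewrite 1 [hHs]
      rw [← Matrix.cramer_apply, ← Matrix.cramer_apply, ← Pi.sub_apply, ← map_sub,
        Matrix.cramer_eq_adjugate_mulVec]
      rfl
    have hq : ∀ i, (H s).adjugate a i - N.adjugate a i ∈ J := fun i => by
      rw [← Ideal.Quotient.mk_eq_mk_iff_sub_mem]
      have hmap : (H s).map (Ideal.Quotient.mk J) = N.map (Ideal.Quotient.mk J) := by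
        ext p q
        simp only [Matrix.map_apply, H, Matrix.of_apply]
        split_ifs
        · exact ((Ideal.Quotient.mk_eq_mk_iff_sub_mem _ _).2 (hd p q)).symm
        · rfl
      have e := congrArg Matrix.adjugate hmap
      rw [← RingHom.mapMatrix_apply, ← RingHom.mapMatrix_apply, ← RingHom.map_adjugate, ← RingHom.map_adjugate] at e
      exact congrFun (congrFun e a) i
    rw [← sub_add_sub_cancel N.det (H s).det, hdet]
    refine add_mem ih (sum_mem fun i _ => ?_)
    rw [← sub_add_cancel ((H s).adjugate a i) (N.adjugate a i), add_mul]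
    refine add_mem ?_ (Ideal.mul_mem_mul (hK a i) (hd i a))
    have : ((H s).adjugate a i - N.adjugate a i) * (N i a - N' i a) ∈ J * J := Ideal.mul_mem_mul (hq i) (hd i a)
    rw [hJ] at this
    exact ((Submodule.mem_bot R).1 this).symm ▸ zero_mem _

section Generic

variable (k : Type u) [Field k] (n m r : ℕ)

abbrev S : Type u := MvPolynomial (Fin n × Fin m) k

/-- The generic matrix. -/
abbrev X₀ : Matrix (Fin n) (Fin m) (S k n m) :=
  Matrix.of fun (i : Fin n) (j : Fin m) => (MvPolynomial.X (i, j) : MvPolynomial (Fin n × Fin m) k)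

abbrev B : Type u := S k n m ⧸ CAlgX.minorIdeal (X₀ k n m) (r + 1)

theorem isSmoothAt_of_not_le (P : Ideal (B k n m r)) [P.IsPrime]
    (h : ¬ (CAlgX.minorIdeal (X₀ k n m) r).map (Ideal.Quotient.mk _) ≤ P) : Algebra.IsSmoothAt k P := by
  rw [Ideal.map_le_iff_le_comap, CAlgX.minorIdeal, Ideal.span_le, Set.not_subset] at h
  obtain ⟨_, ⟨⟨f, g⟩, rfl⟩, hd⟩ := h
  change Ideal.Quotient.mk (CAlgX.minorIdeal (X₀ k n m) (r + 1)) ((X₀ k n m).submatrix f g).det ∉ P at hd
  refine Algebra.FormallySmooth.of_comp_surjective fun A _ _ J hJ h => ?_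
  let hB : B k n m r →ₐ[k] A ⧸ J := h.comp (IsScalarTower.toAlgHom k (B k n m r) (Localization.AtPrime P))
  let hS : S k n m →ₐ[k] A ⧸ J := hB.comp (Ideal.Quotient.mkₐ k _)
  choose a ha using fun i j => Ideal.Quotient.mk_surjective (hS (MvPolynomial.X (i, j)))
  have hnil : ∀ x : A, IsUnit (Ideal.Quotient.mk J x) → IsUnit x := fun x hx => by
    obtain ⟨y, hy⟩ := Ideal.Quotient.mk_surjective hx.unit⁻¹.1
    have h1 : x * y - 1 ∈ J := by
      rw [← Ideal.Quotient.mk_eq_mk_iff_sub_mem, map_mul, hy, map_one, hx.mul_val_inv]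
    have h2 : IsNilpotent (x * y - 1) := ⟨2, by
      have := Ideal.pow_mem_pow h1 2
      rwa [hJ] at this⟩
    have := h2.isUnit_one_add
    rw [add_sub_cancel] at this
    exact isUnit_of_mul_isUnit_left this
  have haX : (Matrix.of a).map (Ideal.Quotient.mk J) = (X₀ k n m).map hS.toRingHom := by
    ext i j; exact ha i j
  have hN : IsUnit ((Matrix.of a).submatrix f g).det := hnil _ (by
    rw [map_minor, haX, ← map_minor]
    exact (IsLocalization.map_units (Localization.AtPrime P)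
      (⟨_, hd⟩ : P.primeCompl)).map h)
  obtain ⟨Y, hY, hYf, hYg⟩ := exists_rank_lift (Matrix.of a) f g hN
  let φ : S k n m →ₐ[k] A := MvPolynomial.aeval fun p => Y p.1 p.2
  have hφ : (X₀ k n m).map φ.toRingHom = Y := by
    ext i j; simp [φ]
  have hker : ∀ x ∈ CAlgX.minorIdeal (X₀ k n m) (r + 1), φ x = 0 := by
    intro x hx
    have : CAlgX.minorIdeal (X₀ k n m) (r + 1) ≤ RingHom.ker φ.toRingHom := by
      refine Ideal.span_le.2 ?_
      rintro _ ⟨⟨p, q⟩, rfl⟩
      show φ.toRingHom ((X₀ k n m).submatrix p q).det = 0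
      rw [map_minor, hφ]
      exact minor_eq_zero hY p q
    exact this hx
  let ψ : B k n m r →ₐ[k] A := Ideal.Quotient.liftₐ _ φ hker
  have hS0 : CAlgX.minorIdeal ((X₀ k n m).map hS.toRingHom) (r + 1) = ⊥ := by
    rw [CAlgX.minorIdeal, Ideal.span_eq_bot]
    rintro _ ⟨⟨p, q⟩, rfl⟩
    show (((X₀ k n m).map hS.toRingHom).submatrix p q).det = 0
    rw [← map_minor]
    show hB (Ideal.Quotient.mk _ ((X₀ k n m).submatrix p q).det) = 0
    have hm : ((X₀ k n m).submatrix p q).det ∈ CAlgX.minorIdeal (X₀ k n m) (r + 1) := Ideal.subset_span ⟨(p, q), rfl⟩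
    rw [Ideal.Quotient.eq_zero_iff_mem.2 hm, map_zero]
  have hY0 : CAlgX.minorIdeal (Y.map (Ideal.Quotient.mk J)) (r + 1) = ⊥ := by
    rw [CAlgX.minorIdeal, Ideal.span_eq_bot]
    rintro _ ⟨⟨p, q⟩, rfl⟩
    show ((Y.map (Ideal.Quotient.mk J)).submatrix p q).det = 0
    rw [← map_minor, minor_eq_zero hY, map_zero]
  have hYa : Y.submatrix f g = (Matrix.of a).submatrix f g := by ext p q; exact hYf p (g q)
  have key : Y.map (Ideal.Quotient.mk J) = (X₀ k n m).map hS.toRingHom := by
    refine ext_of_rank hY0 hS0 f g ?_ (fun p j => ?_) (fun i q => ?_)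
    · rw [← map_minor, hYa]; exact hN.map _
    · rw [Matrix.map_apply, hYf]; exact ha _ _
    · rw [Matrix.map_apply, hYg]; exact ha _ _
  have hcomp : (Ideal.Quotient.mkₐ k J).comp ψ = hB := by
    refine Ideal.Quotient.algHom_ext k (MvPolynomial.algHom_ext fun p => ?_)
    show Ideal.Quotient.mk J (φ (MvPolynomial.X p)) = hS (MvPolynomial.X p)
    rw [MvPolynomial.aeval_X]
    exact congrFun (congrFun key p.1) p.2
  have hu : ∀ y : P.primeCompl, IsUnit (ψ y) := fun y => hnil _ (by
    rw [show Ideal.Quotient.mk J (ψ y) = hB y from AlgHom.congr_fun hcomp _]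
    exact (IsLocalization.map_units (Localization.AtPrime P) y).map h)
  refine ⟨IsLocalization.liftAlgHom (M := P.primeCompl) (f := ψ) hu, ?_⟩
  refine IsLocalization.algHom_ext P.primeCompl (AlgHom.ext fun x => ?_)
  show Ideal.Quotient.mk J (IsLocalization.liftAlgHom (M := P.primeCompl) (f := ψ) hu (algebraMap _ _ x)) = hB x
  rw [IsLocalization.liftAlgHom_apply, IsLocalization.lift_eq]
  exact AlgHom.congr_fun hcomp x

theorem minor_ne_zero (hn : r + 1 ≤ n) (hm : r + 1 ≤ m) :
    ((X₀ k n m).submatrix (Fin.castLE hn) (Fin.castLE hm)).det ≠ 0 := by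
  intro h
  let ev : S k n m →+* k := MvPolynomial.eval fun p => if (p.1 : ℕ) = p.2 then 1 else 0
  have h1 : ((X₀ k n m).map ev).submatrix (Fin.castLE hn) (Fin.castLE hm) = 1 := by
    ext i j
    simp [ev, Matrix.one_apply, Fin.ext_iff]
  have := map_minor ev (X₀ k n m) (Fin.castLE hn) (Fin.castLE hm)
  rw [h, map_zero, h1, Matrix.det_one] at this
  exact zero_ne_one this

theorem kills_of_smooth (P : Ideal (B k n m r)) [P.IsPrime] [Algebra.IsSmoothAt k P]
    (h : (CAlgX.minorIdeal (X₀ k n m) r).map (Ideal.Quotient.mk _) ≤ P)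
    (L : Type u) [CommRing L] [IsLocalRing L] [IsNoetherianRing L] [Algebra k L] (ι : S k n m →ₐ[k] L)
    (hu₀ : ∀ s, Ideal.Quotient.mk _ s ∉ P → IsUnit (ι s))
    (hm₀ : ∀ s, Ideal.Quotient.mk _ s ∈ P → ι s ∈ IsLocalRing.maximalIdeal L) :
    ∀ x ∈ CAlgX.minorIdeal (X₀ k n m) (r + 1), ι x = 0 := by
  let I := CAlgX.minorIdeal (X₀ k n m) (r + 1)
  let I' : Ideal L := I.map ι.toRingHom
  have hI'm : I' ≤ IsLocalRing.maximalIdeal L := Ideal.map_le_iff_le_comap.2 fun x hx => hm₀ x (by
    rw [Ideal.Quotient.eq_zero_iff_mem.2 hx]; exact zero_mem P)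
  let π : S k n m →ₐ[k] L ⧸ I' ^ 2 := (Ideal.Quotient.mkₐ k (I' ^ 2)).comp ι
  let J : Ideal (L ⧸ I' ^ 2) := I'.map (Ideal.Quotient.mk (I' ^ 2))
  have hJ : J * J = ⊥ := by
    show I'.map (Ideal.Quotient.mk (I' ^ 2)) * I'.map (Ideal.Quotient.mk (I' ^ 2)) = ⊥
    rw [← Ideal.map_mul, ← pow_two, Ideal.map_quotient_self]
  let ū : B k n m r →ₐ[k] (L ⧸ I' ^ 2) ⧸ J := Ideal.Quotient.liftₐ I ((Ideal.Quotient.mkₐ k J).comp π) (fun x hx => by
    show Ideal.Quotient.mk J (π x) = 0
    exact Ideal.Quotient.eq_zero_iff_mem.2 (Ideal.mem_map_of_mem _ (Ideal.mem_map_of_mem ι.toRingHom hx)))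
  have hu : ∀ y : P.primeCompl, IsUnit (ū y) := by
    rintro ⟨y, hy⟩
    obtain ⟨s, rfl⟩ := Ideal.Quotient.mk_surjective y
    exact ((hu₀ s hy).map (Ideal.Quotient.mk (I' ^ 2))).map (Ideal.Quotient.mk J)
  let u : Localization.AtPrime P →ₐ[k] (L ⧸ I' ^ 2) ⧸ J :=
    IsLocalization.liftAlgHom (M := P.primeCompl) (f := ū) hu
  haveI : Algebra.FormallySmooth k (Localization.AtPrime P) := ‹Algebra.IsSmoothAt k P›
  obtain ⟨σ, hσ⟩ := Algebra.FormallySmooth.exists_lift (R := k) (A := Localization.AtPrime P) J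
    ⟨2, (pow_two J).trans hJ⟩ u
  let τ : S k n m →ₐ[k] L ⧸ I' ^ 2 := σ.comp ((IsScalarTower.toAlgHom k (B k n m r) (Localization.AtPrime P)).comp
    (Ideal.Quotient.mkₐ k I))
  have hτ : ∀ x, π x - τ x ∈ J := fun x => by
    rw [← Ideal.Quotient.mk_eq_mk_iff_sub_mem]
    refine Eq.trans ?_ (AlgHom.congr_fun hσ _).symm
    show _ = u (algebraMap (B k n m r) (Localization.AtPrime P) (Ideal.Quotient.mk I x))
    rw [show u (algebraMap (B k n m r) (Localization.AtPrime P) (Ideal.Quotient.mk I x)) = ū (Ideal.Quotient.mk I x) by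
      rw [IsLocalization.liftAlgHom_apply, IsLocalization.lift_eq]; rfl]
    rfl
  let K : Ideal (L ⧸ I' ^ 2) := (IsLocalRing.maximalIdeal L).map (Ideal.Quotient.mk (I' ^ 2))
  have hKJ : ∀ x ∈ I, π x ∈ K * J := by
    have : I ≤ (K * J).comap π.toRingHom := by
      refine Ideal.span_le.2 ?_
      rintro _ ⟨⟨p, q⟩, rfl⟩
      show π.toRingHom ((X₀ k n m).submatrix p q).det ∈ K * J
      have h0 : τ.toRingHom ((X₀ k n m).submatrix p q).det = 0 := by
        show σ (algebraMap (B k n m r) _ (Ideal.Quotient.mk I _)) = 0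
        have hm : ((X₀ k n m).submatrix p q).det ∈ I := Ideal.subset_span ⟨(p, q), rfl⟩
        rw [Ideal.Quotient.eq_zero_iff_mem.2 hm, map_zero, map_zero]
      rw [← sub_zero (π.toRingHom _), ← h0, RingHom.map_det, RingHom.map_det]
      refine det_sub_mem J K hJ _ _ (fun i j => hτ _) fun i j => ?_
      rw [← RingHom.map_adjugate, RingHom.mapMatrix_apply, Matrix.map_apply,
        Matrix.adjugate_fin_succ_eq_det_submatrix, map_mul]
      refine Ideal.mul_mem_left _ _ (Ideal.mem_map_of_mem _ (hm₀ _ ?_))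
      rw [Matrix.submatrix_submatrix]
      exact h (Ideal.mem_map_of_mem _ (Ideal.subset_span ⟨(_, _), rfl⟩))
    exact fun x hx => this hx
  have hle : I' ≤ IsLocalRing.maximalIdeal L • I' := by
    have h1 : I' ≤ (K * J).comap (Ideal.Quotient.mk (I' ^ 2)) := Ideal.map_le_iff_le_comap.2 fun x hx => hKJ x hx
    refine h1.trans (le_of_eq_of_le ?_ (le_refl _))
    rw [← Ideal.map_mul, Ideal.comap_map_quotientMk, smul_eq_mul, sup_eq_right]
    rw [pow_two]
    exact Ideal.mul_mono_left hI'm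
  have hbot : I' = ⊥ := Submodule.eq_bot_of_le_smul_of_le_jacobson_bot (IsLocalRing.maximalIdeal L) I'
    (IsNoetherian.noetherian _) hle (IsLocalRing.jacobson_eq_maximalIdeal ⊥ bot_ne_top).ge
  intro x hx
  have : ι x ∈ I' := Ideal.mem_map_of_mem ι.toRingHom hx
  rwa [hbot, Ideal.mem_bot] at this

theorem not_isSmoothAt_of_le (hn : r + 1 ≤ n) (hm : r + 1 ≤ m) (P : Ideal (B k n m r)) [P.IsPrime]
    (h : (CAlgX.minorIdeal (X₀ k n m) r).map (Ideal.Quotient.mk _) ≤ P) : ¬ Algebra.IsSmoothAt k P := by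
  intro hs
  haveI := hs
  let Q : Ideal (S k n m) := P.comap (Ideal.Quotient.mk (CAlgX.minorIdeal (X₀ k n m) (r + 1)))
  haveI : Q.IsPrime := Ideal.IsPrime.comap _
  have hd := kills_of_smooth k n m r P h (Localization.AtPrime Q) (IsScalarTower.toAlgHom k (S k n m) _)
    (fun s hs => IsLocalization.map_units (Localization.AtPrime Q) (⟨s, hs⟩ : Q.primeCompl))
    (fun s hs => (IsLocalization.AtPrime.to_map_mem_maximal_iff (Localization.AtPrime Q) Q s).2 hs)
  refine minor_ne_zero k n m r hn hm (IsLocalization.injective (Localization.AtPrime Q) Q.primeCompl_le_nonZeroDivisors ?_)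
  rw [map_zero]
  exact hd _ (Ideal.subset_span ⟨(_, _), rfl⟩)

end Generic

end Groth.Agent.Det14
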